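import Mathlib
import Cfsg.Agent.H659.TwF4Ord
import Cfsg.Agent.H343.PG.TwF4Fifteen
import Cfsg.Agent.FastGrp
import Cfsg.Agent.Prune
set_option linter.all false
prune_inst 0x7f00000000000000000000000000000000000000000000000000000000000000000000000000000000000000000000000000000000000000000000000000000000000000000000000000000000000000003fffffffffffffffffffffffffffbeffbdffffffff
open scoped Cfsg.Agent.FastGrp

-- part: H637/PG/TwF4W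
section
/-!
# The twisted conjugacy classes of the Weyl group of type `F₄` (helper637, for S3635)

`L1 L2 L3 L4` : coset representatives, every element of the Weyl group is a product; `T4` the twist, `T4² = 2`.
For all 1152 products `X = T4 l₁ l₂ l₃ l₄`: `X⁴ = a X³ - b X² + c X - d` with `(a, b, c, d)` one of eleven;
if `X⁴ = 2 X² - 4` then `a, X a, X² a, X³ a` span a lattice of index dividing 48, for all roots `a`.
-/

set_option autoImplicit false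

namespace Cfsg.Agent.H637.PG.TwF4W

/-- integer vectors -/
structure V4 where
  a : ℤ
  b : ℤ
  c : ℤ
  d : ℤ
  deriving DecidableEq

/-- integer matrices, the images of the basis -/
structure M4 where
  r0 : V4
  r1 : V4
  r2 : V4
  r3 : V4
  deriving DecidableEq

/-- the image of a vector -/
def app (M : M4) (x : V4) : V4 :=
  ⟨x.a * M.r0.a + x.b * M.r1.a + x.c * M.r2.a + x.d * M.r3.a,
   x.a * M.r0.b + x.b * M.r1.b + x.c * M.r2.b + x.d * M.r3.b,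
   x.a * M.r0.c + x.b * M.r1.c + x.c * M.r2.c + x.d * M.r3.c,
   x.a * M.r0.d + x.b * M.r1.d + x.c * M.r2.d + x.d * M.r3.d⟩

/-- composition -/
def comp (M N : M4) : M4 := ⟨app M N.r0, app M N.r1, app M N.r2, app M N.r3⟩

theorem app_comp (M N : M4) (x : V4) : app (comp M N) x = app M (app N x) := by
  simp only [app, comp, V4.mk.injEq]
  refine ⟨by ring, by ring, by ring, by ring⟩

theorem comp_assoc (M N P : M4) : comp (comp M N) P = comp M (comp N P) := by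
  simp only [comp, M4.mk.injEq]
  exact ⟨app_comp M N _, app_comp M N _, app_comp M N _, app_comp M N _⟩

/-- the determinant -/
def det4 (u v w x : V4) : ℤ :=
  (u.a * v.b - u.b * v.a) * (w.c * x.d - w.d * x.c) - (u.a * v.c - u.c * v.a) * (w.b * x.d - w.d * x.b) +
  (u.a * v.d - u.d * v.a) * (w.b * x.c - w.c * x.b) + (u.b * v.c - u.c * v.b) * (w.a * x.d - w.d * x.a) -
  (u.b * v.d - u.d * v.b) * (w.a * x.c - w.c * x.a) + (u.c * v.d - u.d * v.c) * (w.a * x.b - w.b * x.a)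

def L1 : List M4 := [
  ⟨⟨1, 0, 0, 0⟩, ⟨0, 1, 0, 0⟩, ⟨0, 0, 1, 0⟩, ⟨0, 0, 0, 1⟩⟩,
  ⟨⟨1, 0, 0, 0⟩, ⟨0, 1, 0, 0⟩, ⟨0, 0, 1, 1⟩, ⟨0, 0, 0, -1⟩⟩,
  ⟨⟨1, 0, 0, 0⟩, ⟨0, 1, 1, 0⟩, ⟨0, 0, 0, 1⟩, ⟨0, 0, -1, -1⟩⟩,
  ⟨⟨1, 1, 0, 0⟩, ⟨0, 1, 1, 0⟩, ⟨0, 0, 0, 1⟩, ⟨0, -2, -1, -1⟩⟩,
  ⟨⟨0, 1, 0, 0⟩, ⟨1, 1, 1, 0⟩, ⟨0, 0, 0, 1⟩, ⟨-2, -2, -1, -1⟩⟩,
  ⟨⟨1, 1, 1, 0⟩, ⟨0, 1, 0, 0⟩, ⟨0, 0, 1, 1⟩, ⟨0, -2, -2, -1⟩⟩,
  ⟨⟨0, 1, 1, 0⟩, ⟨1, 1, 0, 0⟩, ⟨0, 0, 1, 1⟩, ⟨-2, -2, -2, -1⟩⟩,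
  ⟨⟨1, 1, 1, 1⟩, ⟨0, 1, 0, 0⟩, ⟨0, 0, 1, 0⟩, ⟨0, -2, -2, -1⟩⟩,
  ⟨⟨0, 1, 1, 0⟩, ⟨1, 0, 0, 0⟩, ⟨0, 2, 1, 1⟩, ⟨-2, -4, -2, -1⟩⟩,
  ⟨⟨0, 1, 1, 1⟩, ⟨1, 1, 0, 0⟩, ⟨0, 0, 1, 0⟩, ⟨-2, -2, -2, -1⟩⟩,
  ⟨⟨0, 1, 0, 0⟩, ⟨1, 0, 0, 0⟩, ⟨0, 2, 2, 1⟩, ⟨-2, -4, -3, -1⟩⟩,
  ⟨⟨0, 1, 1, 1⟩, ⟨1, 0, 0, 0⟩, ⟨0, 2, 1, 0⟩, ⟨-2, -4, -2, -1⟩⟩,
  ⟨⟨0, 1, 0, 0⟩, ⟨1, 0, 0, 0⟩, ⟨0, 2, 2, 1⟩, ⟨-2, -4, -3, -2⟩⟩,
  ⟨⟨0, 1, 1, 1⟩, ⟨1, 0, 0, 0⟩, ⟨0, 2, 1, 0⟩, ⟨-2, -4, -3, -1⟩⟩,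
  ⟨⟨0, 1, 1, 0⟩, ⟨1, 0, 0, 0⟩, ⟨0, 2, 1, 1⟩, ⟨-2, -4, -3, -2⟩⟩,
  ⟨⟨0, 1, 1, 1⟩, ⟨1, 1, 0, 0⟩, ⟨0, 0, 1, 0⟩, ⟨-2, -4, -3, -1⟩⟩,
  ⟨⟨0, 1, 1, 0⟩, ⟨1, 1, 0, 0⟩, ⟨0, 0, 1, 1⟩, ⟨-2, -4, -3, -2⟩⟩,
  ⟨⟨1, 1, 1, 1⟩, ⟨0, 1, 0, 0⟩, ⟨0, 0, 1, 0⟩, ⟨-2, -4, -3, -1⟩⟩,
  ⟨⟨1, 1, 1, 0⟩, ⟨0, 1, 0, 0⟩, ⟨0, 0, 1, 1⟩, ⟨-2, -4, -3, -2⟩⟩,
  ⟨⟨0, 1, 0, 0⟩, ⟨1, 1, 1, 0⟩, ⟨0, 0, 0, 1⟩, ⟨-2, -4, -3, -2⟩⟩,
  ⟨⟨1, 1, 0, 0⟩, ⟨0, 1, 1, 0⟩, ⟨0, 0, 0, 1⟩, ⟨-2, -4, -3, -2⟩⟩,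
  ⟨⟨1, 0, 0, 0⟩, ⟨0, 1, 1, 0⟩, ⟨0, 0, 0, 1⟩, ⟨-2, -4, -3, -2⟩⟩,
  ⟨⟨1, 0, 0, 0⟩, ⟨0, 1, 0, 0⟩, ⟨0, 0, 1, 1⟩, ⟨-2, -4, -3, -2⟩⟩,
  ⟨⟨1, 0, 0, 0⟩, ⟨0, 1, 0, 0⟩, ⟨0, 0, 1, 0⟩, ⟨-2, -4, -3, -1⟩⟩]

def L2 : List M4 := [
  ⟨⟨1, 0, 0, 0⟩, ⟨0, 1, 0, 0⟩, ⟨0, 0, 1, 0⟩, ⟨0, 0, 0, 1⟩⟩,
  ⟨⟨1, 0, 0, 0⟩, ⟨0, 1, 1, 0⟩, ⟨0, 0, -1, 0⟩, ⟨0, 0, 1, 1⟩⟩,
  ⟨⟨1, 1, 0, 0⟩, ⟨0, 1, 1, 0⟩, ⟨0, -2, -1, 0⟩, ⟨0, 2, 1, 1⟩⟩,
  ⟨⟨0, 1, 0, 0⟩, ⟨1, 1, 1, 0⟩, ⟨-2, -2, -1, 0⟩, ⟨2, 2, 1, 1⟩⟩,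
  ⟨⟨1, 1, 1, 0⟩, ⟨0, 1, 0, 0⟩, ⟨0, -2, -1, 0⟩, ⟨0, 2, 2, 1⟩⟩,
  ⟨⟨0, 1, 1, 0⟩, ⟨1, 1, 0, 0⟩, ⟨-2, -2, -1, 0⟩, ⟨2, 2, 2, 1⟩⟩,
  ⟨⟨0, 1, 1, 0⟩, ⟨1, 0, 0, 0⟩, ⟨-2, -2, -1, 0⟩, ⟨2, 4, 2, 1⟩⟩,
  ⟨⟨0, 1, 0, 0⟩, ⟨1, 0, 0, 0⟩, ⟨-2, -2, -1, 0⟩, ⟨2, 4, 3, 1⟩⟩]

def L3 : List M4 := [
  ⟨⟨1, 0, 0, 0⟩, ⟨0, 1, 0, 0⟩, ⟨0, 0, 1, 0⟩, ⟨0, 0, 0, 1⟩⟩,
  ⟨⟨1, 1, 0, 0⟩, ⟨0, -1, 0, 0⟩, ⟨0, 2, 1, 0⟩, ⟨0, 0, 0, 1⟩⟩,
  ⟨⟨0, 1, 0, 0⟩, ⟨-1, -1, 0, 0⟩, ⟨2, 2, 1, 0⟩, ⟨0, 0, 0, 1⟩⟩]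

def L4 : List M4 := [
  ⟨⟨1, 0, 0, 0⟩, ⟨0, 1, 0, 0⟩, ⟨0, 0, 1, 0⟩, ⟨0, 0, 0, 1⟩⟩,
  ⟨⟨-1, 0, 0, 0⟩, ⟨1, 1, 0, 0⟩, ⟨0, 0, 1, 0⟩, ⟨0, 0, 0, 1⟩⟩]

/-- the positive roots -/
def roots : List V4 := [
  ⟨0, 0, 0, 1⟩,
  ⟨0, 0, 1, 0⟩,
  ⟨0, 0, 1, 1⟩,
  ⟨0, 1, 0, 0⟩,
  ⟨0, 1, 1, 0⟩,
  ⟨0, 1, 1, 1⟩,
  ⟨0, 2, 1, 0⟩,
  ⟨0, 2, 1, 1⟩,
  ⟨0, 2, 2, 1⟩,
  ⟨1, 0, 0, 0⟩,
  ⟨1, 1, 0, 0⟩,
  ⟨1, 1, 1, 0⟩,
  ⟨1, 1, 1, 1⟩,
  ⟨1, 2, 1, 0⟩,
  ⟨1, 2, 1, 1⟩,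
  ⟨1, 2, 2, 1⟩,
  ⟨1, 3, 2, 1⟩,
  ⟨2, 2, 1, 0⟩,
  ⟨2, 2, 1, 1⟩,
  ⟨2, 2, 2, 1⟩,
  ⟨2, 3, 2, 1⟩,
  ⟨2, 4, 2, 1⟩,
  ⟨2, 4, 3, 1⟩,
  ⟨2, 4, 3, 2⟩]

/-- the simple reflections -/
def s4 : Fin 4 → M4
  | 0 => ⟨⟨-1, 0, 0, 0⟩, ⟨1, 1, 0, 0⟩, ⟨0, 0, 1, 0⟩, ⟨0, 0, 0, 1⟩⟩
  | 1 => ⟨⟨1, 1, 0, 0⟩, ⟨0, -1, 0, 0⟩, ⟨0, 2, 1, 0⟩, ⟨0, 0, 0, 1⟩⟩
  | 2 => ⟨⟨1, 0, 0, 0⟩, ⟨0, 1, 1, 0⟩, ⟨0, 0, -1, 0⟩, ⟨0, 0, 1, 1⟩⟩
  | 3 => ⟨⟨1, 0, 0, 0⟩, ⟨0, 1, 0, 0⟩, ⟨0, 0, 1, 1⟩, ⟨0, 0, 0, -1⟩⟩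

/-- the twist -/
def T4 : M4 := ⟨⟨0, 0, 0, 1⟩, ⟨0, 0, 1, 0⟩, ⟨0, 2, 0, 0⟩, ⟨2, 0, 0, 0⟩⟩

/-- the coefficients `(a, b, c, d)` of `X⁴ - a X³ + b X² - c X + d` -/
def polys : List V4 := [⟨0, 0, 0, -4⟩, ⟨2, 0, -4, -4⟩, ⟨-2, 0, 4, -4⟩, ⟨2, 2, 4, 4⟩, ⟨-2, 2, -4, 4⟩,
  ⟨0, -4, 0, 4⟩, ⟨0, 0, 0, 4⟩, ⟨0, 4, 0, 4⟩, ⟨4, 8, 8, 4⟩, ⟨-4, 8, -8, 4⟩]

/-- `X⁴ - 2 X² + 4` -/
def p6 : V4 := ⟨0, -2, 0, 4⟩

/-- `y₄ = a y₃ - b y₂ + c y₁ - d y₀` -/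
def rowOK (p y0 y1 y2 y3 y4 : V4) : Bool :=
  decide (y4.a = p.a * y3.a - p.b * y2.a + p.c * y1.a - p.d * y0.a) &&
  decide (y4.b = p.a * y3.b - p.b * y2.b + p.c * y1.b - p.d * y0.b) &&
  decide (y4.c = p.a * y3.c - p.b * y2.c + p.c * y1.c - p.d * y0.c) &&
  decide (y4.d = p.a * y3.d - p.b * y2.d + p.c * y1.d - p.d * y0.d)

def chkP (X X2 X3 X4 : M4) (p : V4) : Bool :=
  rowOK p ⟨1, 0, 0, 0⟩ X.r0 X2.r0 X3.r0 X4.r0 && rowOK p ⟨0, 1, 0, 0⟩ X.r1 X2.r1 X3.r1 X4.r1 &&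
  rowOK p ⟨0, 0, 1, 0⟩ X.r2 X2.r2 X3.r2 X4.r2 && rowOK p ⟨0, 0, 0, 1⟩ X.r3 X2.r3 X3.r3 X4.r3

def chkR (X X2 X3 : M4) : Bool :=
  roots.all fun a => decide (48 % det4 a (app X a) (app X2 a) (app X3 a) = 0)

def chk3 (X X2 X3 : M4) : Bool :=
  (fun X4 => (chkP X X2 X3 X4 p6 && chkR X X2 X3) || polys.any (chkP X X2 X3 X4)) (comp X X3)

def chk2 (X X2 : M4) : Bool := (fun X3 => chk3 X X2 X3) (comp X X2)
def chk (X : M4) : Bool := (fun X2 => chk2 X X2) (comp X X)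

/-- `n` represents `x` modulo `2 ^ 127 - 1` -/
private def Rep (c : ℕ) (x : ℤ) (n : ℕ) : Prop := x.natAbs ≤ c ∧ x ≡ n [ZMOD 170141183460469231731687303715884105727]

private local instance (c : ℕ) (x : ℤ) (n : ℕ) : Decidable (Rep c x n) := inferInstanceAs (Decidable (_ ∧ _))

private def sb (n m : ℕ) : ℕ := Nat.add n (Nat.mul 170141183460469231731687303715884105726 m)

section
variable {c d e : ℕ} {x y : ℤ} {n m : ℕ}

private theorem Rep.mul (h : Rep c x n) (h' : Rep d y m) : Rep (c * d) (x * y) (Nat.mul n m) :=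
  ⟨by rw [Int.natAbs_mul]; exact Nat.mul_le_mul h.1 h'.1, h.2.mul h'.2⟩

private theorem Rep.add (h : Rep c x n) (h' : Rep d y m) : Rep (c + d) (x + y) (Nat.add n m) :=
  ⟨(Int.natAbs_add_le x y).trans (Nat.add_le_add h.1 h'.1), h.2.add h'.2⟩

private theorem Rep.sub (h : Rep c x n) (h' : Rep d y m) : Rep (c + d) (x - y) (sb n m) :=
  ⟨(Int.natAbs_sub_le x y).trans (Nat.add_le_add h.1 h'.1), (h.2.sub h'.2).trans
    (Int.modEq_iff_dvd.2 ⟨m, by show (n : ℤ) + 170141183460469231731687303715884105726 * m - (n - m) = _; ring⟩)⟩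

private theorem Rep.md (h : Rep c x n) : Rep c x (Nat.mod n 170141183460469231731687303715884105727) :=
  ⟨h.1, h.2.trans (Int.mod_modEq (n : ℤ) 170141183460469231731687303715884105727).symm⟩

private theorem Rep.zero (h : Rep c x n) (hc : c < 170141183460469231731687303715884105727) (h0 : Nat.beq (Nat.mod n 170141183460469231731687303715884105727) 0 = true) : x = 0 := by
  have h1 := h.md.2
  rw [Nat.eq_of_beq_eq_true h0] at h1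
  exact Int.eq_zero_of_dvd_of_natAbs_lt_natAbs (Int.modEq_zero_iff_dvd.1 h1) (lt_of_le_of_lt h.1 hc)
end

set_option genSizeOf false in
set_option genInjectivity false in
private structure N4 where
  a : ℕ
  b : ℕ
  c : ℕ
  d : ℕ

set_option genSizeOf false in
set_option genInjectivity false in
private structure NM where
  r0 : N4
  r1 : N4
  r2 : N4
  r3 : N4

private def RV (c : ℕ) (v : V4) (n : N4) : Prop := Rep c v.a n.a ∧ Rep c v.b n.b ∧ Rep c v.c n.c ∧ Rep c v.d n.d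
private def RM (c : ℕ) (M : M4) (N : NM) : Prop := RV c M.r0 N.r0 ∧ RV c M.r1 N.r1 ∧ RV c M.r2 N.r2 ∧ RV c M.r3 N.r3
private local instance (c : ℕ) (v : V4) (n : N4) : Decidable (RV c v n) := inferInstanceAs (Decidable (_ ∧ _))
private local instance (c : ℕ) (v : M4) (n : NM) : Decidable (RM c v n) := inferInstanceAs (Decidable (_ ∧ _))
private def cz (z : ℤ) : ℕ := (z % 170141183460469231731687303715884105727).toNat
private def cv (v : V4) : N4 := ⟨cz v.a, cz v.b, cz v.c, cz v.d⟩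
private def cm (M : M4) : NM := ⟨cv M.r0, cv M.r1, cv M.r2, cv M.r3⟩
private def bb (c e : ℕ) : ℕ := c * e + c * e + c * e + c * e

private def appN (M : NM) (x : N4) : N4 :=
  ⟨Nat.mod (Nat.add (Nat.add (Nat.add (Nat.mul x.a M.r0.a) (Nat.mul x.b M.r1.a)) (Nat.mul x.c M.r2.a)) (Nat.mul x.d M.r3.a)) 170141183460469231731687303715884105727,
   Nat.mod (Nat.add (Nat.add (Nat.add (Nat.mul x.a M.r0.b) (Nat.mul x.b M.r1.b)) (Nat.mul x.c M.r2.b)) (Nat.mul x.d M.r3.b)) 170141183460469231731687303715884105727,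
   Nat.mod (Nat.add (Nat.add (Nat.add (Nat.mul x.a M.r0.c) (Nat.mul x.b M.r1.c)) (Nat.mul x.c M.r2.c)) (Nat.mul x.d M.r3.c)) 170141183460469231731687303715884105727,
   Nat.mod (Nat.add (Nat.add (Nat.add (Nat.mul x.a M.r0.d) (Nat.mul x.b M.r1.d)) (Nat.mul x.c M.r2.d)) (Nat.mul x.d M.r3.d)) 170141183460469231731687303715884105727⟩

private def compN (M N : NM) : NM := ⟨appN M N.r0, appN M N.r1, appN M N.r2, appN M N.r3⟩

private theorem RM.app {c e : ℕ} {M : M4} {N : NM} {x : V4} {n : N4} (hM : RM e M N) (hx : RV c x n) :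
    RV (bb c e) (app M x) (appN N n) :=
  ⟨((((hx.1.mul hM.1.1).add (hx.2.1.mul hM.2.1.1)).add (hx.2.2.1.mul hM.2.2.1.1)).add (hx.2.2.2.mul hM.2.2.2.1)).md,
   ((((hx.1.mul hM.1.2.1).add (hx.2.1.mul hM.2.1.2.1)).add (hx.2.2.1.mul hM.2.2.1.2.1)).add (hx.2.2.2.mul hM.2.2.2.2.1)).md,
   ((((hx.1.mul hM.1.2.2.1).add (hx.2.1.mul hM.2.1.2.2.1)).add (hx.2.2.1.mul hM.2.2.1.2.2.1)).add (hx.2.2.2.mul hM.2.2.2.2.2.1)).md,
   ((((hx.1.mul hM.1.2.2.2).add (hx.2.1.mul hM.2.1.2.2.2)).add (hx.2.2.1.mul hM.2.2.1.2.2.2)).add (hx.2.2.2.mul hM.2.2.2.2.2.2)).md⟩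

private theorem RM.comp {c e : ℕ} {M M' : M4} {N N' : NM} (h : RM e M N) (h' : RM c M' N') :
    RM (bb c e) (comp M M') (compN N N') := ⟨h.app h'.1, h.app h'.2.1, h.app h'.2.2.1, h.app h'.2.2.2⟩

private noncomputable def rowN (p y0 y1 y2 y3 y4 : N4) : Bool :=
  Bool.rec false (Bool.rec false (Bool.rec false
    (Nat.beq (Nat.mod (sb y4.d (sb (Nat.add (sb (Nat.mul p.a y3.d) (Nat.mul p.b y2.d)) (Nat.mul p.c y1.d)) (Nat.mul p.d y0.d))) 170141183460469231731687303715884105727) 0)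
    (Nat.beq (Nat.mod (sb y4.c (sb (Nat.add (sb (Nat.mul p.a y3.c) (Nat.mul p.b y2.c)) (Nat.mul p.c y1.c)) (Nat.mul p.d y0.c))) 170141183460469231731687303715884105727) 0))
    (Nat.beq (Nat.mod (sb y4.b (sb (Nat.add (sb (Nat.mul p.a y3.b) (Nat.mul p.b y2.b)) (Nat.mul p.c y1.b)) (Nat.mul p.d y0.b))) 170141183460469231731687303715884105727) 0))
    (Nat.beq (Nat.mod (sb y4.a (sb (Nat.add (sb (Nat.mul p.a y3.a) (Nat.mul p.b y2.a)) (Nat.mul p.c y1.a)) (Nat.mul p.d y0.a))) 170141183460469231731687303715884105727) 0)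

private theorem and_of {a b : Bool} (h : @Bool.rec (fun _ => Bool) false b a = true) : a = true ∧ b = true := by
  cases a
  · exact Bool.noConfusion h
  · exact ⟨rfl, h⟩

private theorem row_of {c1 c2 c3 c4 : ℕ} {p y0 y1 y2 y3 y4 : V4} {q n0 n1 n2 n3 n4 : N4} (hp : RV 8 p q) (h0 : RV 1 y0 n0)
    (h1 : RV c1 y1 n1) (h2 : RV c2 y2 n2) (h3 : RV c3 y3 n3) (h4 : RV c4 y4 n4)
    (hc : c4 + (8 * c3 + 8 * c2 + 8 * c1 + 8 * 1) < 170141183460469231731687303715884105727)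
    (h : rowN q n0 n1 n2 n3 n4 = true) : rowOK p y0 y1 y2 y3 y4 = true := by
  obtain ⟨a, h⟩ := and_of h
  obtain ⟨b, h⟩ := and_of h
  obtain ⟨c, d⟩ := and_of h
  delta rowOK
  rw [decide_eq_true (sub_eq_zero.1 ((h4.1.sub ((((hp.1.mul h3.1).sub (hp.2.1.mul h2.1)).add (hp.2.2.1.mul h1.1)).sub (hp.2.2.2.mul h0.1))).zero hc a)),
    decide_eq_true (sub_eq_zero.1 ((h4.2.1.sub ((((hp.1.mul h3.2.1).sub (hp.2.1.mul h2.2.1)).add (hp.2.2.1.mul h1.2.1)).sub (hp.2.2.2.mul h0.2.1))).zero hc b)),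
    decide_eq_true (sub_eq_zero.1 ((h4.2.2.1.sub ((((hp.1.mul h3.2.2.1).sub (hp.2.1.mul h2.2.2.1)).add (hp.2.2.1.mul h1.2.2.1)).sub (hp.2.2.2.mul h0.2.2.1))).zero hc c)),
    decide_eq_true (sub_eq_zero.1 ((h4.2.2.2.sub ((((hp.1.mul h3.2.2.2).sub (hp.2.1.mul h2.2.2.2)).add (hp.2.2.1.mul h1.2.2.2)).sub (hp.2.2.2.mul h0.2.2.2))).zero hc d))]
  rfl

private noncomputable def chkPN (X X2 X3 X4 : NM) (p : N4) : Bool :=
  Bool.rec false (Bool.rec false (Bool.rec false (rowN p ⟨0, 0, 0, 1⟩ X.r3 X2.r3 X3.r3 X4.r3)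
    (rowN p ⟨0, 0, 1, 0⟩ X.r2 X2.r2 X3.r2 X4.r2)) (rowN p ⟨0, 1, 0, 0⟩ X.r1 X2.r1 X3.r1 X4.r1))
    (rowN p ⟨1, 0, 0, 0⟩ X.r0 X2.r0 X3.r0 X4.r0)

private def detN (u v w x : N4) : ℕ :=
  Nat.add (sb (Nat.add (Nat.add (sb (Nat.mul (sb (Nat.mul u.a v.b) (Nat.mul u.b v.a)) (sb (Nat.mul w.c x.d) (Nat.mul w.d x.c)))
    (Nat.mul (sb (Nat.mul u.a v.c) (Nat.mul u.c v.a)) (sb (Nat.mul w.b x.d) (Nat.mul w.d x.b))))
    (Nat.mul (sb (Nat.mul u.a v.d) (Nat.mul u.d v.a)) (sb (Nat.mul w.b x.c) (Nat.mul w.c x.b))))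
    (Nat.mul (sb (Nat.mul u.b v.c) (Nat.mul u.c v.b)) (sb (Nat.mul w.a x.d) (Nat.mul w.d x.a))))
    (Nat.mul (sb (Nat.mul u.b v.d) (Nat.mul u.d v.b)) (sb (Nat.mul w.a x.c) (Nat.mul w.c x.a))))
    (Nat.mul (sb (Nat.mul u.c v.d) (Nat.mul u.d v.c)) (sb (Nat.mul w.a x.b) (Nat.mul w.b x.a)))

private def db (a b c d : ℕ) : ℕ := (a * b + a * b) * (c * d + c * d)

private theorem det_rep {a b c d : ℕ} {u v w x : V4} {u' v' w' x' : N4} (hu : RV a u u') (hv : RV b v v') (hw : RV c w w')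
    (hx : RV d x x') : Rep (db a b c d + db a b c d + db a b c d + db a b c d + db a b c d + db a b c d) (det4 u v w x)
      (detN u' v' w' x') :=
  (((((((hu.1.mul hv.2.1).sub (hu.2.1.mul hv.1)).mul ((hw.2.2.1.mul hx.2.2.2).sub (hw.2.2.2.mul hx.2.2.1))).sub
    (((hu.1.mul hv.2.2.1).sub (hu.2.2.1.mul hv.1)).mul ((hw.2.1.mul hx.2.2.2).sub (hw.2.2.2.mul hx.2.1)))).add
    (((hu.1.mul hv.2.2.2).sub (hu.2.2.2.mul hv.1)).mul ((hw.2.1.mul hx.2.2.1).sub (hw.2.2.1.mul hx.2.1)))).add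
    (((hu.2.1.mul hv.2.2.1).sub (hu.2.2.1.mul hv.2.1)).mul ((hw.1.mul hx.2.2.2).sub (hw.2.2.2.mul hx.1)))).sub
    (((hu.2.1.mul hv.2.2.2).sub (hu.2.2.2.mul hv.2.1)).mul ((hw.1.mul hx.2.2.1).sub (hw.2.2.1.mul hx.1)))).add
    (((hu.2.2.1.mul hv.2.2.2).sub (hu.2.2.2.mul hv.2.2.1)).mul ((hw.1.mul hx.2.1).sub (hw.2.1.mul hx.1)))

/-- `n` represents one of `±4, ±12, ±16, ±48` -/
private noncomputable def dv (n : ℕ) : Bool :=
  [4, 12, 16, 48].any fun k => Nat.beq (Nat.mod (sb n k) 170141183460469231731687303715884105727) 0 || Nat.beq (Nat.mod (Nat.add n k) 170141183460469231731687303715884105727) 0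

private noncomputable def chkRN (X : NM) : Bool :=
  roots.all fun a => (fun y1 => (fun y2 => dv (Nat.mod (detN (cv a) y1 y2 (appN X y2)) 170141183460469231731687303715884105727)) (appN X y1)) (appN X (cv a))

private noncomputable def sel (c a b : Bool) : Bool := Bool.rec a b c

private theorem sel_of {c a b : Bool} (h : sel c a b = true) : a = true ∨ c = true ∧ b = true := by
  cases c
  exacts [Or.inl h, Or.inr ⟨rfl, h⟩]

private noncomputable def chkN (X : NM) : Bool :=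
  (fun X2 => (fun X3 => (fun X4 => sel (chkPN X X2 X3 X4 (cv p6)) (polys.any fun p => chkPN X X2 X3 X4 (cv p)) (chkRN X))
    (compN X X3)) (compN X X2)) (compN X X)

private theorem chk_of {X : M4} {N : NM} (hX : RM 16384 X N) (h : chkN N = true) : chk X = true := by
  have h2 := hX.comp hX
  have h3 := hX.comp h2
  have h4 := hX.comp h3
  have hP : ∀ p, RV 8 p (cv p) → chkPN N (compN N N) (compN N (compN N N)) (compN N (compN N (compN N N))) (cv p) = true →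
      chkP X (comp X X) (comp X (comp X X)) (comp X (comp X (comp X X))) p = true := by
    intro p hp h
    obtain ⟨a, h⟩ := and_of h
    obtain ⟨b, h⟩ := and_of h
    obtain ⟨c, d⟩ := and_of h
    delta chkP
    rw [row_of hp (by decide +kernel) hX.1 h2.1 h3.1 h4.1 (by decide +kernel) a,
      row_of hp (by decide +kernel) hX.2.1 h2.2.1 h3.2.1 h4.2.1 (by decide +kernel) b,
      row_of hp (by decide +kernel) hX.2.2.1 h2.2.2.1 h3.2.2.1 h4.2.2.1 (by decide +kernel) c,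
      row_of hp (by decide +kernel) hX.2.2.2 h2.2.2.2 h3.2.2.2 h4.2.2.2 (by decide +kernel) d]
    rfl
  refine Bool.or_eq_true_iff.2 ?_
  have h0 : sel (chkPN N (compN N N) (compN N (compN N N)) (compN N (compN N (compN N N))) (cv p6)) (polys.any fun p =>
      chkPN N (compN N N) (compN N (compN N N)) (compN N (compN N (compN N N))) (cv p)) (chkRN N) = true :=
    (Eq.refl (chkN N)).trans h
  rcases sel_of h0 with h1 | ⟨e, h1⟩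
  · obtain ⟨p, hp, h5⟩ := List.any_eq_true.1 h1
    exact Or.inr (List.any_eq_true.2 ⟨p, hp, hP p ((by decide +kernel : ∀ p ∈ polys, RV 8 p (cv p)) p hp) h5⟩)
  · refine Or.inl (Bool.and_eq_true_iff.2 ⟨hP p6 (by decide +kernel) e, List.all_eq_true.2 fun a ha => ?_⟩)
    have ha' := (by decide +kernel : ∀ a ∈ roots, RV 4 a (cv a)) a ha
    have h5 := (det_rep ha' (hX.app ha') (hX.app (hX.app ha')) (hX.app (hX.app (hX.app ha')))).md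
    obtain ⟨k, hk, h6⟩ := List.any_eq_true.1 (List.all_eq_true.1 h1 a ha)
    have hk' := (by decide +kernel : ∀ k ∈ [4, 12, 16, 48], Rep 48 (k : ℕ) k ∧ (48 : ℤ) % (k : ℕ) = 0) k hk
    rw [app_comp, app_comp, app_comp, decide_eq_true_eq]
    rcases Bool.or_eq_true_iff.1 h6 with h7 | h7
    · rw [sub_eq_zero.1 ((h5.sub hk'.1).zero (by decide +kernel) h7)]
      exact hk'.2
    · rw [eq_neg_of_add_eq_zero_left ((h5.add hk'.1).zero (by decide +kernel) h7), Int.emod_neg]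
      exact hk'.2

private theorem allN : (L1.all fun a => (fun A => L2.all fun b => (fun B => L3.all fun c => (fun C => L4.all fun d =>
    chkN (compN C (cm d))) (compN B (cm c))) (compN A (cm b))) (compN (cm T4) (cm a))) = true := by decide +kernel

theorem L1_split : L1 = (L1.drop 0).take 4 ++ ((L1.drop 4).take 4 ++ ((L1.drop 8).take 4 ++
    ((L1.drop 12).take 4 ++ ((L1.drop 16).take 4 ++ (L1.drop 20).take 4)))) := rfl

theorem chk_all {a b c d : M4} (ha : a ∈ L1) (hb : b ∈ L2) (hc : c ∈ L3) (hd : d ∈ L4) :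
    chk (comp (comp (comp (comp T4 a) b) c) d) = true :=
  chk_of (((((by decide +kernel : RM 2 T4 (cm T4)).comp ((by decide +kernel : ∀ a ∈ L1, RM 4 a (cm a)) a ha)).comp
    ((by decide +kernel : ∀ a ∈ L2, RM 4 a (cm a)) b hb)).comp ((by decide +kernel : ∀ a ∈ L3, RM 2 a (cm a)) c hc)).comp
    ((by decide +kernel : ∀ a ∈ L4, RM 1 a (cm a)) d hd))
    (List.all_eq_true.1 (List.all_eq_true.1 (List.all_eq_true.1 (List.all_eq_true.1 allN a ha) b hb) c hc) d hd)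

/-! ### the cosets -/

theorem step1 : ∀ i : Fin 4, ∀ x ∈ L1, comp (s4 i) x ∈ L1 ∨ ∃ j : Fin 4, j ≠ 3 ∧ comp (s4 i) x = comp x (s4 j) := by
  decide +kernel

theorem step2 : ∀ i : Fin 4, i ≠ 3 → ∀ x ∈ L2, comp (s4 i) x ∈ L2 ∨
    ∃ j : Fin 4, (j = 0 ∨ j = 1) ∧ comp (s4 i) x = comp x (s4 j) := by
  decide +kernel

theorem step3 : ∀ i : Fin 4, (i = 0 ∨ i = 1) → ∀ x ∈ L3, comp (s4 i) x ∈ L3 ∨ comp (s4 i) x = comp x (s4 0) := by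
  decide +kernel

theorem step4 : ∀ x ∈ L4, comp (s4 0) x ∈ L4 := by decide +kernel

/-- a product of representatives -/
def Prod4 (M : M4) : Prop := ∃ a ∈ L1, ∃ b ∈ L2, ∃ c ∈ L3, ∃ d ∈ L4, M = comp a (comp b (comp c d))

theorem prod4_step {M : M4} (h : Prod4 M) (i : Fin 4) : Prod4 (comp (s4 i) M) := by
  obtain ⟨a, ha, b, hb, c, hc, d, hd, rfl⟩ := h
  rcases step1 i a ha with h1 | ⟨j, hj, h1⟩
  · exact ⟨_, h1, b, hb, c, hc, d, hd, (comp_assoc _ _ _).symm⟩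
  rw [← comp_assoc, h1, comp_assoc]
  rcases step2 j hj b hb with h2 | ⟨l, hl, h2⟩
  · refine ⟨a, ha, _, h2, c, hc, d, hd, ?_⟩
    rw [comp_assoc (s4 j)]
  rw [← comp_assoc (s4 j), h2, comp_assoc b]
  rcases step3 l hl c hc with h3 | h3
  · refine ⟨a, ha, b, hb, _, h3, d, hd, ?_⟩
    rw [comp_assoc (s4 l)]
  rw [← comp_assoc (s4 l), h3, comp_assoc c]
  exact ⟨a, ha, b, hb, c, hc, _, step4 d hd, rfl⟩

/-- the identity -/
def I4 : M4 := ⟨⟨1, 0, 0, 0⟩, ⟨0, 1, 0, 0⟩, ⟨0, 0, 1, 0⟩, ⟨0, 0, 0, 1⟩⟩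

theorem prod4_one : Prod4 I4 := by
  unfold Prod4
  exact ⟨I4, by decide +kernel, I4, by decide +kernel, I4, by decide +kernel, I4, by decide +kernel, by decide +kernel⟩

theorem chk_of_prod {M : M4} (h : Prod4 M) : chk (comp T4 M) = true := by
  obtain ⟨a, ha, b, hb, c, hc, d, hd, rfl⟩ := h
  have h1 := chk_all ha hb hc hd
  rwa [comp_assoc, comp_assoc, comp_assoc] at h1

end Cfsg.Agent.H637.PG.TwF4W
end

-- part: H637/PG/TwF4L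
section
/-!
# The linear maps of `TwF4W` (helper637)
-/

set_option autoImplicit false

namespace Cfsg.Agent.H637.PG.TwF4W

/-! ### the linear maps -/

def V4.fn (v : V4) : Fin 4 → ℤ := ![v.a, v.b, v.c, v.d]

def ofn (x : Fin 4 → ℤ) : V4 := ⟨x 0, x 1, x 2, x 3⟩

theorem ofn_fn (v : V4) : ofn v.fn = v := rfl

/-- the linear map -/
def lin (M : M4) : (Fin 4 → ℤ) →ₗ[ℤ] (Fin 4 → ℤ) where
  toFun x := (app M (ofn x)).fn
  map_add' x y := by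
    funext i
    (revert i; simp only [V4.fn, app, ofn, _root_.Fin.forall_fin_succ, Fin.isValue, _root_.Pi.add_apply, _root_.Matrix.cons_val_zero, _root_.Matrix.cons_val_succ, _root_.Matrix.cons_val_fin_one, _root_.forall_const]) <;> (repeat' with_reducible apply And.intro) <;> ring
  map_smul' c x := by
    funext i
    (revert i; simp only [V4.fn, app, ofn, _root_.Fin.forall_fin_succ, Fin.isValue, _root_.Pi.smul_apply, _root_.Int.zsmul_eq_mul, _root_.eq_intCast, _root_.Int.cast_eq, _root_.Matrix.cons_val_zero, _root_.Matrix.cons_val_succ, _root_.Matrix.cons_val_fin_one, _root_.forall_const]) <;> (repeat' with_reducible apply And.intro) <;> ring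

theorem lin_apply (M : M4) (x : Fin 4 → ℤ) : lin M x = (app M (ofn x)).fn := rfl

theorem lin_comp (M N : M4) (x : Fin 4 → ℤ) : lin (comp M N) x = lin M (lin N x) := by
  rw [lin_apply, lin_apply, lin_apply, ofn_fn, app_comp]

theorem lin_I4 (x : Fin 4 → ℤ) : lin I4 x = x := by
  funext i
  (revert i; simp only [lin_apply, V4.fn, app, ofn, I4, _root_.Fin.forall_fin_succ, Fin.isValue, _root_.mul_one, _root_.MulZeroClass.mul_zero, _root_.add_zero, _root_.zero_add, _root_.Matrix.cons_val_zero, _root_.Matrix.cons_val_succ, _root_.Fin.succ_zero_eq_one, _root_.Fin.succ_one_eq_two, _root_.Matrix.cons_val_fin_one, Fin.reduceSucc, _root_.IsEmpty.forall_iff, _root_.and_self])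

theorem rowOK_iff {p y0 y1 y2 y3 y4 : V4} (h : rowOK p y0 y1 y2 y3 y4 = true) :
    y4.a = p.a * y3.a - p.b * y2.a + p.c * y1.a - p.d * y0.a ∧
    y4.b = p.a * y3.b - p.b * y2.b + p.c * y1.b - p.d * y0.b ∧
    y4.c = p.a * y3.c - p.b * y2.c + p.c * y1.c - p.d * y0.c ∧
    y4.d = p.a * y3.d - p.b * y2.d + p.c * y1.d - p.d * y0.d := by
  unfold rowOK at h
  rw [Bool.and_eq_true, Bool.and_eq_true, Bool.and_eq_true, decide_eq_true_eq, decide_eq_true_eq, decide_eq_true_eq,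
    decide_eq_true_eq] at h
  exact ⟨h.1.1.1, h.1.1.2, h.1.2, h.2⟩

theorem chkP_iff {X : M4} {p : V4} (h : chkP X (comp X X) (comp X (comp X X)) (comp X (comp X (comp X X))) p = true)
    (x : Fin 4 → ℤ) : lin X (lin X (lin X (lin X x))) =
      p.a • lin X (lin X (lin X x)) - p.b • lin X (lin X x) + p.c • lin X x - p.d • x := by
  unfold chkP at h
  rw [Bool.and_eq_true, Bool.and_eq_true, Bool.and_eq_true] at h
  obtain ⟨⟨⟨h0, h1⟩, h2⟩, h3⟩ := h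
  obtain ⟨a0, b0, c0, d0⟩ := rowOK_iff h0
  obtain ⟨a1, b1, c1, d1⟩ := rowOK_iff h1
  obtain ⟨a2, b2, c2, d2⟩ := rowOK_iff h2
  obtain ⟨a3, b3, c3, d3⟩ := rowOK_iff h3
  have e1 : lin X (lin X x) = lin (comp X X) x := (lin_comp _ _ _).symm
  have e2 : lin X (lin (comp X X) x) = lin (comp X (comp X X)) x := (lin_comp _ _ _).symm
  have e3 : lin X (lin (comp X (comp X X)) x) = lin (comp X (comp X (comp X X))) x := (lin_comp _ _ _).symm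
  rw [e1, e2, e3]
  clear e1 e2 e3 h0 h1 h2 h3
  generalize comp X (comp X (comp X X)) = Y4 at *
  generalize comp X (comp X X) = Y3 at *
  generalize comp X X = Y2 at *
  funext i
  fin_cases i
  · simp only [lin_apply, V4.fn, app, ofn, Pi.sub_apply, Pi.add_apply, Pi.smul_apply, smul_eq_mul, Fin.zero_eta,
      Matrix.cons_val_zero]
    rw [a0, a1, a2, a3]
    ring
  · simp only [lin_apply, V4.fn, app, ofn, Pi.sub_apply, Pi.add_apply, Pi.smul_apply, smul_eq_mul, Fin.mk_one,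
      Matrix.cons_val_one, Matrix.cons_val_zero]
    rw [b0, b1, b2, b3]
    ring
  · simp only [lin_apply, V4.fn, app, ofn, Pi.sub_apply, Pi.add_apply, Pi.smul_apply, smul_eq_mul, Fin.reduceFinMk,
      Matrix.cons_val]
    rw [c0, c1, c2, c3]
    ring
  · simp only [lin_apply, V4.fn, app, ofn, Pi.sub_apply, Pi.add_apply, Pi.smul_apply, smul_eq_mul, Fin.reduceFinMk,
      Matrix.cons_val]
    rw [d0, d1, d2, d3]
    ring

/-- **Cramer's rule.** -/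
theorem cramer (u v w x y : V4) :
    det4 u v w x * y.a = det4 y v w x * u.a + det4 u y w x * v.a + det4 u v y x * w.a + det4 u v w y * x.a ∧
    det4 u v w x * y.b = det4 y v w x * u.b + det4 u y w x * v.b + det4 u v y x * w.b + det4 u v w y * x.b ∧
    det4 u v w x * y.c = det4 y v w x * u.c + det4 u y w x * v.c + det4 u v y x * w.c + det4 u v w y * x.c ∧
    det4 u v w x * y.d = det4 y v w x * u.d + det4 u y w x * v.d + det4 u v y x * w.d + det4 u v w y * x.d := by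
  unfold det4
  refine ⟨by ring, by ring, by ring, by ring⟩

theorem cramer_fn (u v w x y : Fin 4 → ℤ) :
    det4 (ofn u) (ofn v) (ofn w) (ofn x) • y = det4 (ofn y) (ofn v) (ofn w) (ofn x) • u +
      det4 (ofn u) (ofn y) (ofn w) (ofn x) • v + det4 (ofn u) (ofn v) (ofn y) (ofn x) • w +
      det4 (ofn u) (ofn v) (ofn w) (ofn y) • x := by
  obtain ⟨h1, h2, h3, h4⟩ := cramer (ofn u) (ofn v) (ofn w) (ofn x) (ofn y)
  funext i
  fin_cases i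
  · exact h1
  · exact h2
  · exact h3
  · exact h4

/-- the regular type -/
def Six (X : M4) : Prop := (∀ x : Fin 4 → ℤ, lin X (lin X (lin X (lin X x))) = (2 : ℤ) • lin X (lin X x) - (4 : ℤ) • x) ∧
  ∀ a ∈ roots, det4 a (ofn (lin X a.fn)) (ofn (lin X (lin X a.fn))) (ofn (lin X (lin X (lin X a.fn)))) ∣ 48

theorem main_of_chk {X : M4} (h : chk X = true) : Six X ∨ ∃ p ∈ polys, ∀ x : Fin 4 → ℤ,
    lin X (lin X (lin X (lin X x))) = p.a • lin X (lin X (lin X x)) - p.b • lin X (lin X x) + p.c • lin X x - p.d • x := by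
  unfold chk chk2 chk3 at h
  rw [Bool.or_eq_true, Bool.and_eq_true] at h
  rcases h with ⟨h1, h2⟩ | h
  · refine Or.inl ⟨fun x => ?_, fun a ha => ?_⟩
    · rw [chkP_iff h1 x]
      simp [p6]
    · have h3 := List.all_eq_true.1 h2 a ha
      rw [decide_eq_true_eq] at h3
      have e : ∀ M : M4, ofn (lin M a.fn) = app M a := fun M => by rw [lin_apply, ofn_fn, ofn_fn]
      rw [← lin_comp, ← lin_comp, e, e, e]
      exact Int.dvd_of_emod_eq_zero h3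
  · obtain ⟨p, hp, h4⟩ := List.any_eq_true.1 h
    exact Or.inr ⟨p, hp, chkP_iff h4⟩

end Cfsg.Agent.H637.PG.TwF4W
end

-- part: H637/PG/TwF4Non
section
/-!
# Nonadjacency in the prime graph of `²F₄(q)`, `q = 2 ^ (2 m + 1) ≥ 8` (helper637, for S3635)

* `tf4_nonadj` : the primes `t ≠ 3` of `q² - q + 1` are not adjacent to the primes not dividing `q² - q + 1`;
* `tf4_three_five` : no elements of order 15 (helper343).
-/

set_option autoImplicit false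
set_option linter.unusedSectionVars false
set_option linter.unusedVariables false

namespace Cfsg.Agent.H637.PG.TwF4Non

open CoxeterSystem Cfsg Cfsg.Lie Cfsg.Lie.ChevalleyDatum
open Cfsg.Agent.ChevalleyStructure Cfsg.Agent.ChevalleyStructure.Elts Cfsg.Agent.ChevalleyStructure.CoxeterGeom
  Cfsg.Agent.ChevalleyStructure.CoxeterGeomTypes Cfsg.Agent.ChevalleyStructure.NPerm
open Cfsg.Agent.Tits.Roots Cfsg.Agent.Tits.Core Cfsg.Agent.Nodes Cfsg.Agent.Nodes.Reps Cfsg.Agent.Nodes.BNOf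
  Cfsg.Agent.Nodes.RGDChev
open Cfsg.Agent.KFacts.RgdField Cfsg.Agent.KFacts.RgdChevCoord Cfsg.Agent.BpExc.TorCent Cfsg.Agent.BpExc.TorChev
open Cfsg.Agent.GpExc.Field Cfsg.Agent.BpExc.Tow Cfsg.Agent.BpExc.TowChev
  Cfsg.Agent.BpExc.LangFr Cfsg.Agent.BpExc Cfsg.Agent.H129.TorusChar Cfsg.Agent.H129
open Cfsg.Agent.H493.F4End Cfsg.Agent.H493.F4Fix Cfsg.Agent.H493.F4Tor
open Cfsg.Agent.BpExc.TorAll (HAlg)
open Cfsg.Agent.H637.PG.TwF4W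

universe u

/-! ### characters -/

theorem eq_one {M : Type*} [Monoid M] {y : M} {m n : ℕ} (h : Nat.Coprime m n) (h1 : y ^ m = 1) (h2 : y ^ n = 1) :
    y = 1 := by
  have h3 := Nat.dvd_gcd (orderOf_dvd_of_pow_eq_one h1) (orderOf_dvd_of_pow_eq_one h2)
  rw [h] at h3
  exact orderOf_eq_one_iff.1 (Nat.dvd_one.1 h3)

section Chars

variable {k : Type u} [Field k] {φ : (Fin 4 → ℤ) → k} (hφ : IsMC φ) {X : M4} {Q : ℤ}
  (hX : ∀ x, φ (Q • lin X x) = φ x)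

include hφ hX

theorem pow_ann {a b c d : ℤ} (h : ∀ x, lin X (lin X (lin X (lin X x))) =
    a • lin X (lin X (lin X x)) - b • lin X (lin X x) + c • lin X x - d • x) (x : Fin 4 → ℤ) :
    φ x ^ (1 - a * Q + b * Q ^ 2 - c * Q ^ 3 + d * Q ^ 4) = 1 := by
  have k2 : ∀ x, φ ((Q ^ 2) • lin X (lin X x)) = φ x := fun x => by
    have h1 := hX (Q • lin X x)
    rw [map_smul, smul_smul, hX] at h1
    rwa [pow_two]
  have k3 : ∀ x, φ ((Q ^ 3) • lin X (lin X (lin X x))) = φ x := fun x => by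
    have h1 := k2 (Q • lin X x)
    rw [map_smul, map_smul, smul_smul, hX] at h1
    rwa [show Q ^ 3 = Q ^ 2 * Q by ring]
  have k4 : ∀ x, φ ((Q ^ 4) • lin X (lin X (lin X (lin X x)))) = φ x := fun x => by
    have h1 := k3 (Q • lin X x)
    rw [map_smul, map_smul, map_smul, smul_smul, hX] at h1
    rwa [show Q ^ 4 = Q ^ 3 * Q by ring]
  have h0 := hφ.ne_zero x
  have e : (Q ^ 4) • lin X (lin X (lin X (lin X x))) = (a * Q) • ((Q ^ 3) • lin X (lin X (lin X x))) -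
      (b * Q ^ 2) • ((Q ^ 2) • lin X (lin X x)) + (c * Q ^ 3) • (Q • lin X x) - (d * Q ^ 4) • x := by
    rw [h]
    funext i
    simp only [Pi.add_apply, Pi.sub_apply, Pi.smul_apply, smul_eq_mul]
    ring
  have e2 := congrArg φ e
  rw [k4, hφ.sub, hφ.add, hφ.sub, hφ.zsmul, hφ.zsmul (b * Q ^ 2), hφ.zsmul (c * Q ^ 3), hφ.zsmul (d * Q ^ 4), k3, k2,
    hX] at e2
  have e3 : φ x ^ (1 : ℤ) = φ x ^ (a * Q - b * Q ^ 2 + c * Q ^ 3 - d * Q ^ 4) := by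
    rw [zpow_one, zpow_sub₀ h0, zpow_add₀ h0, zpow_sub₀ h0]
    exact e2
  have e4 : (1 - a * Q + b * Q ^ 2 - c * Q ^ 3 + d * Q ^ 4) = 1 - (a * Q - b * Q ^ 2 + c * Q ^ 3 - d * Q ^ 4) := by
    ring
  rw [e4, zpow_sub₀ h0, e3, div_self (zpow_ne_zero _ h0)]

theorem reg {n : ℕ} (hn : Nat.Coprime n 48) (hQ : IsCoprime (n : ℤ) Q) (hpow : ∀ x, φ x ^ n = 1) (h6 : Six X) {a : V4}
    (ha : a ∈ roots) (h1 : φ a.fn = 1) (y : Fin 4 → ℤ) : φ y = 1 := by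
  have step : ∀ z, φ z = 1 → φ (lin X z) = 1 := by
    intro z hz
    have h2 : φ (lin X z) ^ Q = 1 := by rw [← hφ.zsmul, hX, hz]
    have h3 : φ (lin X z) ^ (n : ℤ) = 1 := by rw [zpow_natCast, hpow]
    obtain ⟨u, v, huv⟩ := hQ
    have h0 := hφ.ne_zero (lin X z)
    rw [← zpow_one (φ (lin X z)), ← huv, zpow_add₀ h0, mul_comm u, mul_comm v, zpow_mul, zpow_mul, h2, h3, one_zpow,
      one_zpow, one_mul]
  have h2 := step _ h1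
  have h3 := step _ h2
  have h4 := step _ h3
  have h5 := cramer_fn a.fn (lin X a.fn) (lin X (lin X a.fn)) (lin X (lin X (lin X a.fn))) y
  obtain ⟨e, he⟩ := h6.2 a ha
  have h6' := congrArg φ h5
  rw [hφ.add, hφ.add, hφ.add, hφ.zsmul, hφ.zsmul, hφ.zsmul, hφ.zsmul, hφ.zsmul, h1, h2, h3, h4, one_zpow, one_zpow,
    one_zpow, one_zpow, one_mul, one_mul, one_mul, ofn_fn] at h6'
  have h7 : φ y ^ 48 = 1 := by
    have h8 : φ y ^ (48 : ℤ) = 1 := by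
      rw [he, zpow_mul, h6', one_zpow]
    exact_mod_cast h8
  exact eq_one hn (hpow y) h7

omit hX in
theorem lin_pow {z : k} {A B : ℤ} (h0 : z ≠ 0) (hA : z ^ A = 1) (hB : z ^ B = 1) (U V : ℤ) (h : 3 = U * A + V * B) :
    z ^ 3 = 1 := by
  have h3 : z ^ (3 : ℤ) = 1 := by
    rw [h, zpow_add₀ h0, mul_comm U, mul_comm V, zpow_mul, zpow_mul, hA, hB, one_zpow, one_zpow, one_mul]
  exact_mod_cast h3

/-- **The type of a character of order `t ∣ 4 Q⁴ - 2 Q² + 1`.** -/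
theorem six_of {n : ℕ} (hn : Nat.Coprime n 3) (hpow : ∀ x, φ x ^ n = 1) (hd : (n : ℤ) ∣ 4 * Q ^ 4 - 2 * Q ^ 2 + 1)
    (hne : ∃ x, φ x ≠ 1) (hchk : chk X = true) : Six X := by
  rcases main_of_chk hchk with h | ⟨p, hp, h⟩
  · exact h
  exfalso
  obtain ⟨x, hx⟩ := hne
  apply hx
  refine eq_one hn (hpow x) ?_
  have hA := pow_ann hφ hX h x
  have hB : φ x ^ (4 * Q ^ 4 - 2 * Q ^ 2 + 1) = 1 := by
    obtain ⟨c, hc⟩ := hd
    rw [hc, zpow_mul, zpow_natCast, hpow, one_zpow]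
  have h0 := hφ.ne_zero x
  simp only [polys, List.mem_cons, List.not_mem_nil, or_false] at hp
  rcases hp with rfl | rfl | rfl | rfl | rfl | rfl | rfl | rfl | rfl | rfl
  · exact lin_pow hφ h0 hA hB (1 + 2 * Q ^ 2) (2 + 2 * Q ^ 2) (by ring)
  · exact lin_pow hφ h0 hA hB (3 * (1 + 2 * Q + 2 * Q ^ 2)) (3 * (2 * Q ^ 2)) (by ring)
  · exact lin_pow hφ h0 hA hB (3 * (1 - 2 * Q + 2 * Q ^ 2)) (3 * (2 * Q ^ 2)) (by ring)
  · exact lin_pow hφ h0 hA hB (3 * (-1 - Q + 2 * Q ^ 2 + 4 * Q ^ 3)) (3 * (2 - Q + 2 * Q ^ 2 - 4 * Q ^ 3)) (by ring)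
  · exact lin_pow hφ h0 hA hB (3 * (-1 + Q + 2 * Q ^ 2 - 4 * Q ^ 3)) (3 * (2 + Q + 2 * Q ^ 2 + 4 * Q ^ 3)) (by ring)
  · exact lin_pow hφ h0 hA hB (3 * (-1 + 2 * Q ^ 2)) (3 * (2 - 2 * Q ^ 2)) (by ring)
  · exact lin_pow hφ h0 hA hB (3 * (1 - 2 * Q ^ 2)) (3 * (2 * Q ^ 2)) (by ring)
  · exact lin_pow hφ h0 hA hB (1 - 2 * Q ^ 2) (2 + 2 * Q ^ 2) (by ring)
  · exact lin_pow hφ h0 hA hB (3 * (5 + 4 * Q - 10 * Q ^ 2 - 16 * Q ^ 3)) (3 * (-4 + 16 * Q - 22 * Q ^ 2 + 16 * Q ^ 3))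
      (by ring)
  · exact lin_pow hφ h0 hA hB (3 * (5 - 4 * Q - 10 * Q ^ 2 + 16 * Q ^ 3)) (3 * (-4 - 16 * Q - 22 * Q ^ 2 - 16 * Q ^ 3))
      (by ring)

end Chars

/-! ### the Weyl group -/

theorem rep_lin {W : Type*} [Group W] (cs : CoxeterSystem CoxeterMatrix.F₄ W) (i : Fin 4) (x : Fin 4 → ℤ) :
    rep cs hp.isCartan (cs.simple i) x = lin (s4 i) x := by
  have e : pairing (cartanOf chevF4 4) i x = ∑ n, H493.PGF4T.Am i n * x n := by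
    unfold pairing
    exact Finset.sum_congr rfl fun n _ => by rw [H493.PGF4T.hA]
  rw [rep_simple_eq, e, Fin.sum_univ_four]
  funext m
  fin_cases i <;> fin_cases m <;>
    simp [H493.PGF4T.Am, H493.PGF4.Am, lin_apply, V4.fn, app, ofn, s4, sr] <;> ring

theorem exists_prod {W : Type*} [Group W] (cs : CoxeterSystem CoxeterMatrix.F₄ W) (w : W) :
    ∃ M, Prod4 M ∧ ∀ x, rep cs hp.isCartan w x = lin M x := by
  induction w using cs.simple_induction_left with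
  | one => exact ⟨I4, prod4_one, fun x => by rw [map_one, Module.End.one_apply, lin_I4]⟩
  | mul_simple_left w i ih =>
    obtain ⟨M, hM, h⟩ := ih
    exact ⟨_, prod4_step hM i, fun x => by rw [map_mul, Module.End.mul_apply, h, rep_lin, lin_comp]⟩

theorem root_tab : ∀ r : Fin 48, ∃ v ∈ roots, (∀ i : Fin 4, vec chevF4 4 r i = v.fn i) ∨
    (∀ i : Fin 4, vec chevF4 4 r i = - v.fn i) := by
  decide +kernel

theorem root_list {W : Type*} [Group W] (cs : CoxeterSystem CoxeterMatrix.F₄ W) {a : Fin 4 → ℤ}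
    (ha : IsRoot cs hp.isCartan a) : ∃ v ∈ roots, a = v.fn ∨ a = - v.fn := by
  obtain ⟨r, hr, rfl⟩ := (isRoot_iff hp cs a).1 ha
  obtain ⟨v, hv, h⟩ := root_tab ⟨r, hr⟩
  exact ⟨v, hv, h.imp funext funext⟩

/-! ### the torus -/

section Alg

variable {k : Type u} [Field k] [IsAlgClosed k] [CharP k 2]

theorem cX_T4 (m : ℕ) {t : ↥(chevF4.group k)} (ht : t ∈ TT chevF4 k) (x : Fin 4 → ℤ) :
    cX hp (ste k m t) x = cX hp t (((2 ^ m : ℕ) : ℤ) • lin T4 x) := by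
  have h1 := isMC_cX hp (ste_TT (m := m) ht)
  have h2 := isMC_cX hp ht
  have h3 : IsMC (fun x => cX hp t (((2 ^ m : ℕ) : ℤ) • lin T4 x)) :=
    h2.comp ((((2 ^ m : ℕ) : ℤ) • lin T4).toAddMonoidHom)
  refine h1.ext h3 (fun i => ?_) x
  show cX hp (ste k m t) (sr i) = cX hp t (((2 ^ m : ℕ) : ℤ) • lin T4 (sr i))
  have h4 := cX_ste m ht (rv i)
  rw [rv_rv] at h4
  have e : lin T4 (sr i) = ((eN (rv i) : ℕ) : ℤ) • sr (rv i) := by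
    funext j
    (revert i j; simp only [lin_apply, V4.fn, app, ofn, T4, sr, eN, rv, _root_.Fin.forall_fin_succ, Fin.isValue, _root_.MulZeroClass.mul_zero, _root_.add_zero, _root_.zero_add, _root_.mul_one, _root_.Pi.smul_apply, _root_.Int.zsmul_eq_mul, _root_.Matrix.cons_val_zero, _root_.Matrix.cons_val_succ, _root_.Fin.succ_zero_eq_one, _root_.Fin.succ_one_eq_two, _root_.Matrix.cons_val_fin_one, Fin.reduceSucc, _root_.IsEmpty.forall_iff, _root_.and_true, _root_.Matrix.cons_val, _root_.one_mul, _root_.ne_eq, Fin.reduceEq, _root_.not_false_eq_true, _root_.Pi.single_eq_of_ne, _root_.MulZeroClass.zero_mul, _root_.Nat.cast_one, _root_.one_ne_zero, _root_.Pi.single_eq_same, _root_.and_self, _root_.implies_true, _root_.Fin.succ_ne_zero, _root_.Pi.single_eq_of_ne', _root_.zero_eq_mul, _root_.Int.natCast_eq_zero, _root_.or_true, _root_.Matrix.cons_val_one,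 _root_.Nat.cast_ofNat, _root_.zero_ne_one, _root_.OfNat.ofNat_ne_zero, _root_.mul_eq_right₀, _root_.mul_eq_zero, _root_.or_false])
  rw [h4, e, h2.zsmul, h2.zsmul, zpow_natCast, zpow_natCast, ← pow_mul]

variable {W : Type*} [Group W] (cs : CoxeterSystem CoxeterMatrix.F₄ W)

/-- the matrix of a twisted torus -/
theorem exists_mat (hk : LocFin k) [Fact (Nat.Prime 2)] {hN : NSys CoxeterMatrix.F₄ (TT chevF4 k) (nc hp k)} {w : W}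
    {g : ↥(chevF4.group k)} (hg : Rp cs hN w g) (m : ℕ) : ∃ X : M4, chk X = true ∧
      ∀ t ∈ TT chevF4 k, g * ste k m t * g⁻¹ = t → ∀ x, cX hp t (((2 ^ m : ℕ) : ℤ) • lin X x) = cX hp t x := by
  obtain ⟨M, hM, h⟩ := exists_prod cs w⁻¹
  refine ⟨_root_.Cfsg.Agent.H637.PG.TwF4W.comp T4 M, chk_of_prod hM, fun t ht hgt x => ?_⟩
  have h1 := cX_rp hp cs hk 2 hg (ste_TT (m := m) ht) (rep cs hp.isCartan w⁻¹ x)
  rw [hgt, rep_apply_inv, cX_T4 m ht, h] at h1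
  rw [h1, lin_comp]

theorem ch_ne_one {t : ↥(chevF4.group k)} (ht : t ∈ TT chevF4 k) {X : M4} {m n : ℕ} (hodd : n.Coprime 2)
    (h3 : n.Coprime 3) (htn : t ^ n = 1) (ht1 : t ≠ 1) (h6 : Six X)
    (hX : ∀ x, cX hp t (((2 ^ m : ℕ) : ℤ) • lin X x) = cX hp t x) {a : Fin 4 → ℤ} (ha : IsRoot cs hp.isCartan a) :
    ch hp a t ≠ 1 := by
  intro h1
  apply ht1
  rw [← cX_root hp cs ht ha] at h1
  obtain ⟨v, hv, hav⟩ := root_list cs ha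
  have hφ := isMC_cX hp ht
  have hv1 : cX hp t v.fn = 1 := by
    rcases hav with rfl | rfl
    · exact h1
    · rw [hφ.neg, inv_eq_one] at h1
      exact h1
  refine cX_inj hp ht (one_mem _) fun i => ?_
  rw [cX_one]
  refine reg hφ hX (n := n) ?_ ?_ (fun x => by rw [← cX_pow hp ht, htn, cX_one]) h6 hv hv1 (sr i)
  · rw [show 48 = 2 ^ 4 * 3 by norm_num]
    exact Nat.Coprime.mul_right (Nat.Coprime.pow_right 4 hodd) h3
  · exact Nat.isCoprime_iff_coprime.2 (Nat.Coprime.pow_right m hodd)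

end Alg

/-! ### the finite group -/

section Fin

theorem five_not_dvd (m : ℕ) : ¬ 5 ∣ (2 ^ (2 * m + 1)) ^ 2 - 2 ^ (2 * m + 1) + 1 := by
  intro h
  have h1 : 5 ∣ (2 ^ (2 * m + 1)) ^ 2 + 1 := by
    have e : (2 ^ (2 * m + 1)) ^ 2 + 1 = 4 * 16 ^ m + 1 := by
      rw [← pow_mul, show (2 * m + 1) * 2 = 4 * m + 2 by ring, pow_add, pow_mul]
      norm_num
      ring
    rw [e, Nat.dvd_iff_mod_eq_zero, Nat.add_mod, Nat.mul_mod, Nat.pow_mod]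
    norm_num
  have h2 : 2 ^ (2 * m + 1) ≤ (2 ^ (2 * m + 1)) ^ 2 := Nat.le_self_pow (by norm_num) _
  have h3 : 5 ∣ 2 ^ (2 * m + 1) := by
    have h4 := Nat.dvd_sub h1 h
    have e : (2 ^ (2 * m + 1)) ^ 2 + 1 - ((2 ^ (2 * m + 1)) ^ 2 - 2 ^ (2 * m + 1) + 1) = 2 ^ (2 * m + 1) := by
      generalize 2 ^ (2 * m + 1) = a at h2 ⊢
      generalize a ^ 2 = b at h2 ⊢
      omega
    rwa [e] at h4
  have h5 := Nat.Prime.dvd_of_dvd_pow Nat.prime_five h3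
  norm_num at h5

section Pair

variable {k : Type u} [Field k] [IsAlgClosed k] [CharP k 2]

/-- the statement over the algebraically closed field -/
theorem dvd_of_comm (hk : LocFin k) [Fact (Nat.Prime 2)] (hka : HAlg 2 k) {m : ℕ} {t r : ℕ} (ht : t.Prime) (ht2 : t ≠ 2)
    (ht3 : t ≠ 3) (ht5 : t ≠ 5) {Q : ℕ} (hQ : Q = 2 ^ m) (hd : (t : ℤ) ∣ 4 * (Q : ℤ) ^ 4 - 2 * (Q : ℤ) ^ 2 + 1)
    {y u : ↥(chevF4.group k)} (hy : ste k m y = y) (hu : ste k m u = u) (hyu : y * u = u * y) (hyo : orderOf y = t)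
    (huo : orderOf u = r) : (r : ℤ) ∣ 4 * (Q : ℤ) ^ 4 - 2 * (Q : ℤ) ^ 2 + 1 := by
  let cs := CoxeterMatrix.F₄.toCoxeterSystem
  have : Finite CoxeterMatrix.F₄.Group := finite_W hp cs
  have hyt : y ^ t = 1 := by rw [← hyo, pow_orderOf_eq_one]
  obtain ⟨z, hz⟩ := TorAll.exists_toral hp 2 hka ht ht2 hyt
  set t0 := z⁻¹ * y * z with ht0
  have h1 : ste k m t0 = (ste k m z)⁻¹ * y * ste k m z := by
    rw [ht0, map_mul, map_mul, map_inv, hy]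
  have e1 : z⁻¹ * ste k m z * ste k m t0 = t0 * (z⁻¹ * ste k m z) := by
    rw [h1, ht0]; group
  obtain ⟨m', hm', w, g, hg, hgs, hc⟩ := H378.Regular.exists_form' hp cs hk 2 (ste_TT (m := m) hz) hz e1
  have hgt : g * ste k m t0 * g⁻¹ = t0 := by rw [hgs]; group
  obtain ⟨X, hX, hXt⟩ := exists_mat cs hk hg m
  have htn : t0 ^ t = 1 := by
    have : t0 ^ t = z⁻¹ * y ^ t * z := by
      have h2 := conj_pow (a := z⁻¹) (b := y) (i := t)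
      rwa [inv_inv] at h2
    rw [this, hyt]; group
  have ht01 : t0 ≠ 1 := by
    intro h2
    have h3 : y = z * t0 * z⁻¹ := by rw [ht0]; group
    rw [h2, mul_one, mul_inv_cancel] at h3
    rw [h3, orderOf_one] at hyo
    exact ht.one_lt.ne hyo
  have hφ := isMC_cX hp hz
  have hodd : Nat.Coprime t 2 := (Nat.coprime_primes ht Nat.prime_two).2 ht2
  have h3c : Nat.Coprime t 3 := (Nat.coprime_primes ht Nat.prime_three).2 ht3
  have hpow : ∀ x, cX hp t0 x ^ t = 1 := fun x => by rw [← cX_pow hp hz, htn, cX_one]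
  have hne : ∃ x, cX hp t0 x ≠ 1 := by
    by_contra h2
    push Not at h2
    apply ht01
    exact cX_inj hp hz (one_mem _) fun i => by rw [h2, cX_one]
  have h6 : Six X := six_of hφ (hXt t0 hz hgt) h3c hpow (by rw [← hQ]; exact hd) hne hX
  have hreg : ∀ a, IsRoot cs hp.isCartan a → ch hp a t0 ≠ 1 := fun a ha =>
    ch_ne_one cs hz hodd h3c htn ht01 h6 (hXt t0 hz hgt) ha
  rw [H378.Regular.MM_eq_bot hp cs hreg, Subgroup.mem_bot] at hm'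
  rw [hm', one_mul] at hc
  have hW : ¬ t ∣ Nat.card CoxeterMatrix.F₄.Group := by
    intro h2
    have h3 := H378.LatCodim.le_of_dvd_card cs hp.isCartan ht h2
    have h4 := ht.two_le
    interval_cases t
    · exact ht2 rfl
    · exact ht3 rfl
    · exact absurd ht (by norm_num)
    · exact ht5 rfl
  set s0 := z⁻¹ * u * z with hs0
  have hst : s0 * t0 = t0 * s0 := by
    rw [hs0, ht0]
    calc z⁻¹ * u * z * (z⁻¹ * y * z) = z⁻¹ * (u * y) * z := by group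
      _ = z⁻¹ * (y * u) * z := by rw [hyu]
      _ = _ := by group
  have hsT : s0 ∈ TT chevF4 k := H378.Regular.mem_TT_of_comm hp cs hz ht hW htn hreg hst hk 2
  have hσz : ste k m z = z * g := by rw [← hc]; group
  have hgs0 : g * ste k m s0 * g⁻¹ = s0 := by
    rw [hs0, map_mul, map_mul, map_inv, hσz, hu]; group
  have hXs := hXt s0 hsT hgs0
  have hA := fun x => pow_ann (isMC_cX hp hsT) hXs (a := 0) (b := -2) (c := 0) (d := 4) (fun x => by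
    rw [h6.1 x]
    simp) x
  have e2 : (1 - 0 * ((2 ^ m : ℕ) : ℤ) + -2 * ((2 ^ m : ℕ) : ℤ) ^ 2 - 0 * ((2 ^ m : ℕ) : ℤ) ^ 3 +
      4 * ((2 ^ m : ℕ) : ℤ) ^ 4) = 4 * (Q : ℤ) ^ 4 - 2 * (Q : ℤ) ^ 2 + 1 := by
    rw [← hQ]; ring
  rw [e2] at hA
  have hpos : 0 ≤ 4 * (Q : ℤ) ^ 4 - 2 * (Q : ℤ) ^ 2 + 1 := by linarith only [sq_nonneg ((Q : ℤ) ^ 2), sq_nonneg (2 * (Q : ℤ) ^ 2 - 1)]
  obtain ⟨N, hN⟩ := Int.eq_ofNat_of_zero_le hpos
  rw [hN] at hA ⊢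
  have h7 : s0 ^ N = 1 := by
    refine cX_inj hp (pow_mem hsT N) (one_mem _) fun i => ?_
    rw [cX_pow hp hsT, cX_one]
    have := hA (sr i)
    rwa [zpow_natCast] at this
  have h8 : u ^ N = 1 := by
    have : u = z * s0 * z⁻¹ := by rw [hs0]; group
    rw [this, conj_pow, h7]; group
  rw [← huo]
  exact Int.natCast_dvd_natCast.2 (orderOf_dvd_of_pow_eq_one h8)

end Pair

variable {K : Type u} [Field K] [Fintype K] {m : ℕ}

open Cfsg.Agent.ChevalleyStructure.TwF4.TwistedFix in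
theorem tf4_nonadj (hm : 1 ≤ m) (hK : Fintype.card K = 2 ^ (2 * m + 1)) {t r : ℕ} (ht : t.Prime)
    (ht3 : t ≠ 3) (hd : t ∣ Fintype.card K ^ 2 - Fintype.card K + 1) (hr : r.Prime)
    (hrd : ¬ r ∣ Fintype.card K ^ 2 - Fintype.card K + 1) :
    ¬ ∃ x : ↥(Cfsg.Lie.twistedF4 K (2 ^ m)), orderOf x = r * t := by
  rintro ⟨x, hx⟩
  -- arithmetic
  obtain ⟨Q, hQ⟩ : ∃ Q, Q = 2 ^ m := ⟨_, rfl⟩
  have hKQ : Fintype.card K = 2 * Q ^ 2 := by rw [hK, hQ, pow_succ, ← pow_mul, mul_comm m 2]; ring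
  have hlt : 2 * Q ^ 2 ≤ (2 * Q ^ 2) ^ 2 := Nat.le_self_pow (by norm_num) _
  have hnZ : ((Fintype.card K ^ 2 - Fintype.card K + 1 : ℕ) : ℤ) = 4 * (Q : ℤ) ^ 4 - 2 * (Q : ℤ) ^ 2 + 1 := by
    rw [hKQ]
    push_cast [Nat.cast_sub hlt]
    ring
  have hdZ : (t : ℤ) ∣ 4 * (Q : ℤ) ^ 4 - 2 * (Q : ℤ) ^ 2 + 1 := by
    rw [← hnZ]
    exact Int.natCast_dvd_natCast.2 hd
  have ht2 : t ≠ 2 := by
    rintro rfl
    have h1 : (2 : ℤ) ∣ 2 * (2 * (Q : ℤ) ^ 4 - (Q : ℤ) ^ 2) + 1 := by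
      have e : 2 * (2 * (Q : ℤ) ^ 4 - (Q : ℤ) ^ 2) + 1 = 4 * (Q : ℤ) ^ 4 - 2 * (Q : ℤ) ^ 2 + 1 := by ring
      rw [e]
      exact_mod_cast hdZ
    omega
  have ht5 : t ≠ 5 := by
    rintro rfl
    rw [hK] at hd
    exact five_not_dvd m hd
  have : Fact (Nat.Prime 2) := ⟨Nat.prime_two⟩
  have hc2 : CharP K 2 := F4Fixed.charP_two hK
  obtain ⟨φ, hφ⟩ := exists_rln hK
  obtain ⟨p, e, hpF, hpc, hpk, he, hpe, hk⟩ := H129.TorusUntw.exists_closure hK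
  have hp2 : p = 2 := CharP.eq K hpc hc2
  subst hp2
  have hka : HAlg 2 (AlgebraicClosure K) := H343.PG.TwF4Fifteen.hAlg_closure 2 K
  set x1 : ↥(chevF4.group K) := ⟨(x : GL chevF4.Idx K), SuzT.twisted_le K m x.2⟩ with hx1
  have ho1 : orderOf x1 = r * t := by
    rw [← hx, ← Subgroup.orderOf_coe x1, ← Subgroup.orderOf_coe x]
  have hs1 : ste K m x1 = x1 := SuzT.ste_of_twisted hφ x.2
  set x2 : ↥(chevF4.group (AlgebraicClosure K)) := emb Cfsg.Agent.H493.F4End.hD (algebraMap K (AlgebraicClosure K)) x1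
    with hx2
  have ho2 : orderOf x2 = r * t := by
    rw [← ho1]
    exact orderOf_injective _ (emb_injective _ _) x1
  have hs2 : ste (AlgebraicClosure K) m x2 = x2 := by
    rw [hx2, ← emb_ste, hs1]
  have hrt : 0 < r * t := Nat.mul_pos hr.pos ht.pos
  have h1 : orderOf (x2 ^ r) = t := by
    rw [orderOf_pow_of_dvd hr.ne_zero (by rw [ho2]; exact dvd_mul_right _ _), ho2, Nat.mul_div_cancel_left _ hr.pos]
  have h2 : orderOf (x2 ^ t) = r := by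
    rw [orderOf_pow_of_dvd ht.ne_zero (by rw [ho2]; exact dvd_mul_left _ _), ho2, Nat.mul_div_cancel _ ht.pos]
  have h3 := dvd_of_comm hk hka ht ht2 ht3 ht5 hQ hdZ (y := x2 ^ r) (u := x2 ^ t) (by rw [map_pow, hs2])
    (by rw [map_pow, hs2]) (by rw [← pow_add, ← pow_add, add_comm]) h1 h2
  apply hrd
  rw [← hnZ] at h3
  exact Int.natCast_dvd_natCast.1 h3

theorem tf4_three_five (hm : 1 ≤ m) (hK : Fintype.card K = 2 ^ (2 * m + 1)) :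
    ¬ ∃ x : ↥(Cfsg.Lie.twistedF4 K (2 ^ m)), orderOf x = 3 * 5 :=
  H343.PG.TwF4Fifteen.not_exists_fifteen hK

end Fin

end Cfsg.Agent.H637.PG.TwF4Non
end

private theorem dce_5dac71efdcd8 : _root_.True := by
  try have : _root_.True := by simp only [_root_.Cfsg.Agent.H637.PG.TwF4W.s4.eq_2]
  try have : _root_.True := by simp only [_root_.Cfsg.Agent.H637.PG.TwF4W.I4.eq_1]
  try have : _root_.True := by simp only [_root_.Cfsg.Agent.H637.PG.TwF4W.s4.eq_1]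
  try have : _root_.True := by simp only [_root_.Cfsg.Agent.H493.F4Tor.rv.eq_1]
  try have : _root_.True := by simp only [_root_.Cfsg.Agent.H637.PG.TwF4W.V4.fn.eq_1]
  try have : _root_.True := by simp only [_root_.Cfsg.Agent.H637.PG.TwF4W.polys.eq_1]
  try have : _root_.True := by simp only [_root_.Cfsg.Agent.H129.TorusChar.cX.congr_simp]
  try have : _root_.True := by simp only [_root_.Cfsg.Agent.H637.PG.TwF4W.comp.eq_1]
  try have : _root_.True := by simp only [_root_.Cfsg.Agent.H493.PGF4.Am.eq_1]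
  try have : _root_.True := by simp only [_root_.Cfsg.Agent.H637.PG.TwF4W.ofn.eq_1]
  try have : _root_.True := by simp only [_root_.Cfsg.Agent.H637.PG.TwF4W.app.eq_1]
  try have : _root_.True := by simp only [_root_.Cfsg.Agent.H637.PG.TwF4W.s4.eq_3]
  try have : _root_.True := by simp only [_root_.Cfsg.Agent.H637.PG.TwF4W.T4.eq_1]
  try have : _root_.True := by simp only [_root_.Cfsg.Agent.H637.PG.TwF4W.s4.eq_4]
  try have : _root_.True := by simp only [_root_.Cfsg.Agent.H493.PGF4T.Am.eq_1]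
  try have : _root_.True := by simp only [_root_.Cfsg.Agent.H637.PG.TwF4W.p6.eq_1]
  exact _root_.True.intro
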